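import Cfsg.Agent.Lib.Helper9.TCData.HeA1.Main

set_option autoImplicit false
set_option maxRecDepth 1000000

namespace Cfsg.Agent.Helper9.TCData.HeA1
open Cfsg.Agent.Helper9.TC2

theorem e1_1 : allRange 2734 2651 (fun u => chkE tab 1 u) = true := by decide +kernel

theorem e1_2 : allRange 5385 2803 (fun u => chkE tab 1 u) = true := by decide +kernel

theorem e1_3 : allRange 8188 2762 (fun u => chkE tab 1 u) = true := by decide +kernel

theorem e1_4 : allRange 10950 2906 (fun u => chkE tab 1 u) = true := by decide +kernel

theorem e1_5 : allRange 13856 1418 (fun u => chkE tab 1 u) = true := by decide +kernel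

theorem e2_0 : allRange 0 2980 (fun u => chkE tab 2 u) = true := by decide +kernel

theorem e2_1 : allRange 2980 2725 (fun u => chkE tab 2 u) = true := by decide +kernel

theorem e2_2 : allRange 5705 2908 (fun u => chkE tab 2 u) = true := by decide +kernel


end Cfsg.Agent.Helper9.TCData.HeA1
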