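import Cfsg.Agent.Lib.Helper9.TCData.HeA1.Main

set_option autoImplicit false
set_option maxRecDepth 1000000

namespace Cfsg.Agent.Helper9.TCData.HeA1
open Cfsg.Agent.Helper9.TC2

theorem ma_3 : allRange 5457 1819 (fun u => chkAux tab aux u) = true := by decide +kernel

theorem ma_4 : allRange 7276 1819 (fun u => chkAux tab aux u) = true := by decide +kernel

theorem ma_5 : allRange 9095 1819 (fun u => chkAux tab aux u) = true := by decide +kernel

theorem ma_6 : allRange 10914 1819 (fun u => chkAux tab aux u) = true := by decide +kernel

theorem ma_7 : allRange 12733 1819 (fun u => chkAux tab aux u) = true := by decide +kernel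

theorem ma_8 : allRange 14552 568 (fun u => chkAux tab aux u) = true := by decide +kernel

theorem m2_0 : allRange 0 191 (fun u => chkFix tab mwordsA u) = true := by decide +kernel

theorem m2_1 : allRange 191 191 (fun u => chkFix tab mwordsA u) = true := by decide +kernel


end Cfsg.Agent.Helper9.TCData.HeA1
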