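import Cfsg.Agent.Lib.Helper9.TCData.HeA1.Main

set_option autoImplicit false
set_option maxRecDepth 1000000

namespace Cfsg.Agent.Helper9.TCData.HeA1
open Cfsg.Agent.Helper9.TC2

theorem m2_34 : allRange 6494 191 (fun u => chkFix tab mwordsA u) = true := by decide +kernel

theorem m2_35 : allRange 6685 191 (fun u => chkFix tab mwordsA u) = true := by decide +kernel

theorem m2_36 : allRange 6876 191 (fun u => chkFix tab mwordsA u) = true := by decide +kernel

theorem m2_37 : allRange 7067 191 (fun u => chkFix tab mwordsA u) = true := by decide +kernel

theorem m2_38 : allRange 7258 191 (fun u => chkFix tab mwordsA u) = true := by decide +kernel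

theorem m2_39 : allRange 7449 191 (fun u => chkFix tab mwordsA u) = true := by decide +kernel

theorem m2_40 : allRange 7640 191 (fun u => chkFix tab mwordsA u) = true := by decide +kernel

theorem m2_41 : allRange 7831 191 (fun u => chkFix tab mwordsA u) = true := by decide +kernel


end Cfsg.Agent.Helper9.TCData.HeA1
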