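import Cfsg.Agent.Lib.Helper9.TCData.HeA1.Main

set_option autoImplicit false
set_option maxRecDepth 1000000

namespace Cfsg.Agent.Helper9.TCData.HeA1
open Cfsg.Agent.Helper9.TC2

theorem e2_3 : allRange 8613 2565 (fun u => chkE tab 2 u) = true := by decide +kernel

theorem e2_4 : allRange 11178 2265 (fun u => chkE tab 2 u) = true := by decide +kernel

theorem e2_5 : allRange 13443 1831 (fun u => chkE tab 2 u) = true := by decide +kernel

theorem e3_0 : allRange 0 4291 (fun u => chkE tab 3 u) = true := by decide +kernel

theorem e3_1 : allRange 4291 3746 (fun u => chkE tab 3 u) = true := by decide +kernel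

theorem e3_2 : allRange 8037 3412 (fun u => chkE tab 3 u) = true := by decide +kernel

theorem e3_3 : allRange 11449 2701 (fun u => chkE tab 3 u) = true := by decide +kernel

theorem e3_4 : allRange 14150 1124 (fun u => chkE tab 3 u) = true := by decide +kernel


end Cfsg.Agent.Helper9.TCData.HeA1
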