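import Cfsg.Agent.Lib.Helper9.TCData.HeA1.Main

set_option autoImplicit false
set_option maxRecDepth 1000000

namespace Cfsg.Agent.Helper9.TCData.HeA1
open Cfsg.Agent.Helper9.TC2

theorem e4_0 : allRange 0 3704 (fun u => chkE tab 4 u) = true := by decide +kernel

theorem e4_1 : allRange 3704 3453 (fun u => chkE tab 4 u) = true := by decide +kernel

theorem e4_2 : allRange 7157 3831 (fun u => chkE tab 4 u) = true := by decide +kernel

theorem e4_3 : allRange 10988 3368 (fun u => chkE tab 4 u) = true := by decide +kernel

theorem e4_4 : allRange 14356 918 (fun u => chkE tab 4 u) = true := by decide +kernel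


end Cfsg.Agent.Helper9.TCData.HeA1
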