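import Cfsg.Agent.Lib.Helper9.TCData.HeA1.S0
import Cfsg.Agent.Lib.Helper9.TCData.HeA1.S1
import Cfsg.Agent.Lib.Helper9.TCData.HeA1.S2
import Cfsg.Agent.Lib.Helper9.TCData.HeA1.S3
import Cfsg.Agent.Lib.Helper9.TCData.HeA1.S4
import Cfsg.Agent.Lib.Helper9.TCData.HeA1.S5
import Cfsg.Agent.Lib.Helper9.TCData.HeA1.S6
import Cfsg.Agent.Lib.Helper9.TCData.HeA1.S7
import Cfsg.Agent.Lib.Helper9.TCData.HeA1.S8
import Cfsg.Agent.Lib.Helper9.TCData.HeA1.S9
import Cfsg.Agent.Lib.Helper9.TCData.HeA1.S10
import Cfsg.Agent.Lib.Helper9.TCData.HeA1.S11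
import Cfsg.Agent.Lib.Helper9.TCData.HeA1.S12
import Cfsg.Agent.Lib.Helper9.TCData.HeA1.S13
import Cfsg.Agent.Lib.Helper9.TCData.HeA1.S14
import Cfsg.Agent.Lib.Helper9.TCData.HeA1.S15
import Cfsg.Agent.Lib.Helper9.TCData.HeA1.S16
import Cfsg.Agent.Lib.Helper9.TCData.HeA1.S17
import Cfsg.Agent.Lib.Helper9.TCData.HeA1.S18
import Cfsg.Agent.Lib.Helper9.TCData.HeA1.S19
import Cfsg.Agent.Lib.Helper9.TCData.HeA1.S20
import Cfsg.Agent.Lib.Helper9.TCData.HeA1.S21
import Cfsg.Agent.Lib.Helper9.TCData.HeA1.S22

set_option autoImplicit false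
set_option maxRecDepth 1000000

namespace Cfsg.Agent.Helper9.TCData.HeA1
open Cfsg.Agent.Helper9.TC2


theorem hE0 : ∀ u < 15274, chkE tab 0 u = true := by
  have h0 : ∀ u < 0, (fun u => chkE tab 0 u) u = true := range_zero
  have h1 : ∀ u < 2359, (fun u => chkE tab 0 u) u = true := ext_range (a := 0) (len := 2359) h0 e0_0
  have h2 : ∀ u < 4877, (fun u => chkE tab 0 u) u = true := ext_range (a := 2359) (len := 2518) h1 e0_1
  have h3 : ∀ u < 7279, (fun u => chkE tab 0 u) u = true := ext_range (a := 4877) (len := 2402) h2 e0_2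
  have h4 : ∀ u < 9813, (fun u => chkE tab 0 u) u = true := ext_range (a := 7279) (len := 2534) h3 e0_3
  have h5 : ∀ u < 12306, (fun u => chkE tab 0 u) u = true := ext_range (a := 9813) (len := 2493) h4 e0_4
  have h6 : ∀ u < 15079, (fun u => chkE tab 0 u) u = true := ext_range (a := 12306) (len := 2773) h5 e0_5
  have h7 : ∀ u < 15274, (fun u => chkE tab 0 u) u = true := ext_range (a := 15079) (len := 195) h6 e0_6
  exact h7

theorem hE1 : ∀ u < 15274, chkE tab 1 u = true := by
  have h0 : ∀ u < 0, (fun u => chkE tab 1 u) u = true := range_zero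
  have h1 : ∀ u < 2734, (fun u => chkE tab 1 u) u = true := ext_range (a := 0) (len := 2734) h0 e1_0
  have h2 : ∀ u < 5385, (fun u => chkE tab 1 u) u = true := ext_range (a := 2734) (len := 2651) h1 e1_1
  have h3 : ∀ u < 8188, (fun u => chkE tab 1 u) u = true := ext_range (a := 5385) (len := 2803) h2 e1_2
  have h4 : ∀ u < 10950, (fun u => chkE tab 1 u) u = true := ext_range (a := 8188) (len := 2762) h3 e1_3
  have h5 : ∀ u < 13856, (fun u => chkE tab 1 u) u = true := ext_range (a := 10950) (len := 2906) h4 e1_4
  have h6 : ∀ u < 15274, (fun u => chkE tab 1 u) u = true := ext_range (a := 13856) (len := 1418) h5 e1_5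
  exact h6

theorem hE2 : ∀ u < 15274, chkE tab 2 u = true := by
  have h0 : ∀ u < 0, (fun u => chkE tab 2 u) u = true := range_zero
  have h1 : ∀ u < 2980, (fun u => chkE tab 2 u) u = true := ext_range (a := 0) (len := 2980) h0 e2_0
  have h2 : ∀ u < 5705, (fun u => chkE tab 2 u) u = true := ext_range (a := 2980) (len := 2725) h1 e2_1
  have h3 : ∀ u < 8613, (fun u => chkE tab 2 u) u = true := ext_range (a := 5705) (len := 2908) h2 e2_2
  have h4 : ∀ u < 11178, (fun u => chkE tab 2 u) u = true := ext_range (a := 8613) (len := 2565) h3 e2_3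
  have h5 : ∀ u < 13443, (fun u => chkE tab 2 u) u = true := ext_range (a := 11178) (len := 2265) h4 e2_4
  have h6 : ∀ u < 15274, (fun u => chkE tab 2 u) u = true := ext_range (a := 13443) (len := 1831) h5 e2_5
  exact h6

theorem hE3 : ∀ u < 15274, chkE tab 3 u = true := by
  have h0 : ∀ u < 0, (fun u => chkE tab 3 u) u = true := range_zero
  have h1 : ∀ u < 4291, (fun u => chkE tab 3 u) u = true := ext_range (a := 0) (len := 4291) h0 e3_0
  have h2 : ∀ u < 8037, (fun u => chkE tab 3 u) u = true := ext_range (a := 4291) (len := 3746) h1 e3_1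
  have h3 : ∀ u < 11449, (fun u => chkE tab 3 u) u = true := ext_range (a := 8037) (len := 3412) h2 e3_2
  have h4 : ∀ u < 14150, (fun u => chkE tab 3 u) u = true := ext_range (a := 11449) (len := 2701) h3 e3_3
  have h5 : ∀ u < 15274, (fun u => chkE tab 3 u) u = true := ext_range (a := 14150) (len := 1124) h4 e3_4
  exact h5

theorem hE4 : ∀ u < 15274, chkE tab 4 u = true := by
  have h0 : ∀ u < 0, (fun u => chkE tab 4 u) u = true := range_zero
  have h1 : ∀ u < 3704, (fun u => chkE tab 4 u) u = true := ext_range (a := 0) (len := 3704) h0 e4_0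
  have h2 : ∀ u < 7157, (fun u => chkE tab 4 u) u = true := ext_range (a := 3704) (len := 3453) h1 e4_1
  have h3 : ∀ u < 10988, (fun u => chkE tab 4 u) u = true := ext_range (a := 7157) (len := 3831) h2 e4_2
  have h4 : ∀ u < 14356, (fun u => chkE tab 4 u) u = true := ext_range (a := 10988) (len := 3368) h3 e4_3
  have h5 : ∀ u < 15274, (fun u => chkE tab 4 u) u = true := ext_range (a := 14356) (len := 918) h4 e4_4
  exact h5

theorem hL : ∀ u < 15274, chkL tab u = true := by
  have h0 : ∀ u < 0, (fun u => chkL tab u) u = true := range_zero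
  have h1 : ∀ u < 15274, (fun u => chkL tab u) u = true := ext_range (a := 0) (len := 15274) h0 l_0
  exact h1

theorem hF : ∀ u < 15120, chkFin tab u = true := by
  have h0 : ∀ u < 0, (fun u => chkFin tab u) u = true := range_zero
  have h1 : ∀ u < 471, (fun u => chkFin tab u) u = true := ext_range (a := 0) (len := 471) h0 f_0
  have h2 : ∀ u < 942, (fun u => chkFin tab u) u = true := ext_range (a := 471) (len := 471) h1 f_1
  have h3 : ∀ u < 1413, (fun u => chkFin tab u) u = true := ext_range (a := 942) (len := 471) h2 f_2
  have h4 : ∀ u < 1884, (fun u => chkFin tab u) u = true := ext_range (a := 1413) (len := 471) h3 f_3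
  have h5 : ∀ u < 2355, (fun u => chkFin tab u) u = true := ext_range (a := 1884) (len := 471) h4 f_4
  have h6 : ∀ u < 2826, (fun u => chkFin tab u) u = true := ext_range (a := 2355) (len := 471) h5 f_5
  have h7 : ∀ u < 3297, (fun u => chkFin tab u) u = true := ext_range (a := 2826) (len := 471) h6 f_6
  have h8 : ∀ u < 3768, (fun u => chkFin tab u) u = true := ext_range (a := 3297) (len := 471) h7 f_7
  have h9 : ∀ u < 4239, (fun u => chkFin tab u) u = true := ext_range (a := 3768) (len := 471) h8 f_8
  have h10 : ∀ u < 4710, (fun u => chkFin tab u) u = true := ext_range (a := 4239) (len := 471) h9 f_9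
  have h11 : ∀ u < 5181, (fun u => chkFin tab u) u = true := ext_range (a := 4710) (len := 471) h10 f_10
  have h12 : ∀ u < 5652, (fun u => chkFin tab u) u = true := ext_range (a := 5181) (len := 471) h11 f_11
  have h13 : ∀ u < 6123, (fun u => chkFin tab u) u = true := ext_range (a := 5652) (len := 471) h12 f_12
  have h14 : ∀ u < 6594, (fun u => chkFin tab u) u = true := ext_range (a := 6123) (len := 471) h13 f_13
  have h15 : ∀ u < 7065, (fun u => chkFin tab u) u = true := ext_range (a := 6594) (len := 471) h14 f_14
  have h16 : ∀ u < 7536, (fun u => chkFin tab u) u = true := ext_range (a := 7065) (len := 471) h15 f_15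
  have h17 : ∀ u < 8007, (fun u => chkFin tab u) u = true := ext_range (a := 7536) (len := 471) h16 f_16
  have h18 : ∀ u < 8478, (fun u => chkFin tab u) u = true := ext_range (a := 8007) (len := 471) h17 f_17
  have h19 : ∀ u < 8949, (fun u => chkFin tab u) u = true := ext_range (a := 8478) (len := 471) h18 f_18
  have h20 : ∀ u < 9420, (fun u => chkFin tab u) u = true := ext_range (a := 8949) (len := 471) h19 f_19
  have h21 : ∀ u < 9891, (fun u => chkFin tab u) u = true := ext_range (a := 9420) (len := 471) h20 f_20
  have h22 : ∀ u < 10362, (fun u => chkFin tab u) u = true := ext_range (a := 9891) (len := 471) h21 f_21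
  have h23 : ∀ u < 10833, (fun u => chkFin tab u) u = true := ext_range (a := 10362) (len := 471) h22 f_22
  have h24 : ∀ u < 11304, (fun u => chkFin tab u) u = true := ext_range (a := 10833) (len := 471) h23 f_23
  have h25 : ∀ u < 11775, (fun u => chkFin tab u) u = true := ext_range (a := 11304) (len := 471) h24 f_24
  have h26 : ∀ u < 12246, (fun u => chkFin tab u) u = true := ext_range (a := 11775) (len := 471) h25 f_25
  have h27 : ∀ u < 12717, (fun u => chkFin tab u) u = true := ext_range (a := 12246) (len := 471) h26 f_26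
  have h28 : ∀ u < 13188, (fun u => chkFin tab u) u = true := ext_range (a := 12717) (len := 471) h27 f_27
  have h29 : ∀ u < 13659, (fun u => chkFin tab u) u = true := ext_range (a := 13188) (len := 471) h28 f_28
  have h30 : ∀ u < 14130, (fun u => chkFin tab u) u = true := ext_range (a := 13659) (len := 471) h29 f_29
  have h31 : ∀ u < 14601, (fun u => chkFin tab u) u = true := ext_range (a := 14130) (len := 471) h30 f_30
  have h32 : ∀ u < 15072, (fun u => chkFin tab u) u = true := ext_range (a := 14601) (len := 471) h31 f_31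
  have h33 : ∀ u < 15120, (fun u => chkFin tab u) u = true := ext_range (a := 15072) (len := 48) h32 f_32
  exact h33

theorem hC : ∀ u < 15274, chkCls tab u = true := by
  have h0 : ∀ u < 0, (fun u => chkCls tab u) u = true := range_zero
  have h1 : ∀ u < 2667, (fun u => chkCls tab u) u = true := ext_range (a := 0) (len := 2667) h0 c_0
  have h2 : ∀ u < 5334, (fun u => chkCls tab u) u = true := ext_range (a := 2667) (len := 2667) h1 c_1
  have h3 : ∀ u < 8001, (fun u => chkCls tab u) u = true := ext_range (a := 5334) (len := 2667) h2 c_2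
  have h4 : ∀ u < 10668, (fun u => chkCls tab u) u = true := ext_range (a := 8001) (len := 2667) h3 c_3
  have h5 : ∀ u < 13335, (fun u => chkCls tab u) u = true := ext_range (a := 10668) (len := 2667) h4 c_4
  have h6 : ∀ u < 15274, (fun u => chkCls tab u) u = true := ext_range (a := 13335) (len := 1939) h5 c_5
  exact h6

theorem hM1 : ∀ u < 15120, chkM1 tab u = true := by
  have h0 : ∀ u < 0, (fun u => chkM1 tab u) u = true := range_zero
  have h1 : ∀ u < 1231, (fun u => chkM1 tab u) u = true := ext_range (a := 0) (len := 1231) h0 m1_0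
  have h2 : ∀ u < 2462, (fun u => chkM1 tab u) u = true := ext_range (a := 1231) (len := 1231) h1 m1_1
  have h3 : ∀ u < 3693, (fun u => chkM1 tab u) u = true := ext_range (a := 2462) (len := 1231) h2 m1_2
  have h4 : ∀ u < 4924, (fun u => chkM1 tab u) u = true := ext_range (a := 3693) (len := 1231) h3 m1_3
  have h5 : ∀ u < 6155, (fun u => chkM1 tab u) u = true := ext_range (a := 4924) (len := 1231) h4 m1_4
  have h6 : ∀ u < 7386, (fun u => chkM1 tab u) u = true := ext_range (a := 6155) (len := 1231) h5 m1_5
  have h7 : ∀ u < 8617, (fun u => chkM1 tab u) u = true := ext_range (a := 7386) (len := 1231) h6 m1_6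
  have h8 : ∀ u < 9848, (fun u => chkM1 tab u) u = true := ext_range (a := 8617) (len := 1231) h7 m1_7
  have h9 : ∀ u < 11079, (fun u => chkM1 tab u) u = true := ext_range (a := 9848) (len := 1231) h8 m1_8
  have h10 : ∀ u < 12310, (fun u => chkM1 tab u) u = true := ext_range (a := 11079) (len := 1231) h9 m1_9
  have h11 : ∀ u < 13541, (fun u => chkM1 tab u) u = true := ext_range (a := 12310) (len := 1231) h10 m1_10
  have h12 : ∀ u < 14772, (fun u => chkM1 tab u) u = true := ext_range (a := 13541) (len := 1231) h11 m1_11
  have h13 : ∀ u < 15120, (fun u => chkM1 tab u) u = true := ext_range (a := 14772) (len := 348) h12 m1_12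
  exact h13

theorem hMA : ∀ u < 15120, chkAux tab aux u = true := by
  have h0 : ∀ u < 0, (fun u => chkAux tab aux u) u = true := range_zero
  have h1 : ∀ u < 1819, (fun u => chkAux tab aux u) u = true := ext_range (a := 0) (len := 1819) h0 ma_0
  have h2 : ∀ u < 3638, (fun u => chkAux tab aux u) u = true := ext_range (a := 1819) (len := 1819) h1 ma_1
  have h3 : ∀ u < 5457, (fun u => chkAux tab aux u) u = true := ext_range (a := 3638) (len := 1819) h2 ma_2
  have h4 : ∀ u < 7276, (fun u => chkAux tab aux u) u = true := ext_range (a := 5457) (len := 1819) h3 ma_3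
  have h5 : ∀ u < 9095, (fun u => chkAux tab aux u) u = true := ext_range (a := 7276) (len := 1819) h4 ma_4
  have h6 : ∀ u < 10914, (fun u => chkAux tab aux u) u = true := ext_range (a := 9095) (len := 1819) h5 ma_5
  have h7 : ∀ u < 12733, (fun u => chkAux tab aux u) u = true := ext_range (a := 10914) (len := 1819) h6 ma_6
  have h8 : ∀ u < 14552, (fun u => chkAux tab aux u) u = true := ext_range (a := 12733) (len := 1819) h7 ma_7
  have h9 : ∀ u < 15120, (fun u => chkAux tab aux u) u = true := ext_range (a := 14552) (len := 568) h8 ma_8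
  exact h9

theorem hM2A : ∀ u < 15120, chkFix tab mwordsA u = true := by
  have h0 : ∀ u < 0, (fun u => chkFix tab mwordsA u) u = true := range_zero
  have h1 : ∀ u < 191, (fun u => chkFix tab mwordsA u) u = true := ext_range (a := 0) (len := 191) h0 m2_0
  have h2 : ∀ u < 382, (fun u => chkFix tab mwordsA u) u = true := ext_range (a := 191) (len := 191) h1 m2_1
  have h3 : ∀ u < 573, (fun u => chkFix tab mwordsA u) u = true := ext_range (a := 382) (len := 191) h2 m2_2
  have h4 : ∀ u < 764, (fun u => chkFix tab mwordsA u) u = true := ext_range (a := 573) (len := 191) h3 m2_3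
  have h5 : ∀ u < 955, (fun u => chkFix tab mwordsA u) u = true := ext_range (a := 764) (len := 191) h4 m2_4
  have h6 : ∀ u < 1146, (fun u => chkFix tab mwordsA u) u = true := ext_range (a := 955) (len := 191) h5 m2_5
  have h7 : ∀ u < 1337, (fun u => chkFix tab mwordsA u) u = true := ext_range (a := 1146) (len := 191) h6 m2_6
  have h8 : ∀ u < 1528, (fun u => chkFix tab mwordsA u) u = true := ext_range (a := 1337) (len := 191) h7 m2_7
  have h9 : ∀ u < 1719, (fun u => chkFix tab mwordsA u) u = true := ext_range (a := 1528) (len := 191) h8 m2_8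
  have h10 : ∀ u < 1910, (fun u => chkFix tab mwordsA u) u = true := ext_range (a := 1719) (len := 191) h9 m2_9
  have h11 : ∀ u < 2101, (fun u => chkFix tab mwordsA u) u = true := ext_range (a := 1910) (len := 191) h10 m2_10
  have h12 : ∀ u < 2292, (fun u => chkFix tab mwordsA u) u = true := ext_range (a := 2101) (len := 191) h11 m2_11
  have h13 : ∀ u < 2483, (fun u => chkFix tab mwordsA u) u = true := ext_range (a := 2292) (len := 191) h12 m2_12
  have h14 : ∀ u < 2674, (fun u => chkFix tab mwordsA u) u = true := ext_range (a := 2483) (len := 191) h13 m2_13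
  have h15 : ∀ u < 2865, (fun u => chkFix tab mwordsA u) u = true := ext_range (a := 2674) (len := 191) h14 m2_14
  have h16 : ∀ u < 3056, (fun u => chkFix tab mwordsA u) u = true := ext_range (a := 2865) (len := 191) h15 m2_15
  have h17 : ∀ u < 3247, (fun u => chkFix tab mwordsA u) u = true := ext_range (a := 3056) (len := 191) h16 m2_16
  have h18 : ∀ u < 3438, (fun u => chkFix tab mwordsA u) u = true := ext_range (a := 3247) (len := 191) h17 m2_17
  have h19 : ∀ u < 3629, (fun u => chkFix tab mwordsA u) u = true := ext_range (a := 3438) (len := 191) h18 m2_18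
  have h20 : ∀ u < 3820, (fun u => chkFix tab mwordsA u) u = true := ext_range (a := 3629) (len := 191) h19 m2_19
  have h21 : ∀ u < 4011, (fun u => chkFix tab mwordsA u) u = true := ext_range (a := 3820) (len := 191) h20 m2_20
  have h22 : ∀ u < 4202, (fun u => chkFix tab mwordsA u) u = true := ext_range (a := 4011) (len := 191) h21 m2_21
  have h23 : ∀ u < 4393, (fun u => chkFix tab mwordsA u) u = true := ext_range (a := 4202) (len := 191) h22 m2_22
  have h24 : ∀ u < 4584, (fun u => chkFix tab mwordsA u) u = true := ext_range (a := 4393) (len := 191) h23 m2_23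
  have h25 : ∀ u < 4775, (fun u => chkFix tab mwordsA u) u = true := ext_range (a := 4584) (len := 191) h24 m2_24
  have h26 : ∀ u < 4966, (fun u => chkFix tab mwordsA u) u = true := ext_range (a := 4775) (len := 191) h25 m2_25
  have h27 : ∀ u < 5157, (fun u => chkFix tab mwordsA u) u = true := ext_range (a := 4966) (len := 191) h26 m2_26
  have h28 : ∀ u < 5348, (fun u => chkFix tab mwordsA u) u = true := ext_range (a := 5157) (len := 191) h27 m2_27
  have h29 : ∀ u < 5539, (fun u => chkFix tab mwordsA u) u = true := ext_range (a := 5348) (len := 191) h28 m2_28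
  have h30 : ∀ u < 5730, (fun u => chkFix tab mwordsA u) u = true := ext_range (a := 5539) (len := 191) h29 m2_29
  have h31 : ∀ u < 5921, (fun u => chkFix tab mwordsA u) u = true := ext_range (a := 5730) (len := 191) h30 m2_30
  have h32 : ∀ u < 6112, (fun u => chkFix tab mwordsA u) u = true := ext_range (a := 5921) (len := 191) h31 m2_31
  have h33 : ∀ u < 6303, (fun u => chkFix tab mwordsA u) u = true := ext_range (a := 6112) (len := 191) h32 m2_32
  have h34 : ∀ u < 6494, (fun u => chkFix tab mwordsA u) u = true := ext_range (a := 6303) (len := 191) h33 m2_33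
  have h35 : ∀ u < 6685, (fun u => chkFix tab mwordsA u) u = true := ext_range (a := 6494) (len := 191) h34 m2_34
  have h36 : ∀ u < 6876, (fun u => chkFix tab mwordsA u) u = true := ext_range (a := 6685) (len := 191) h35 m2_35
  have h37 : ∀ u < 7067, (fun u => chkFix tab mwordsA u) u = true := ext_range (a := 6876) (len := 191) h36 m2_36
  have h38 : ∀ u < 7258, (fun u => chkFix tab mwordsA u) u = true := ext_range (a := 7067) (len := 191) h37 m2_37
  have h39 : ∀ u < 7449, (fun u => chkFix tab mwordsA u) u = true := ext_range (a := 7258) (len := 191) h38 m2_38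
  have h40 : ∀ u < 7640, (fun u => chkFix tab mwordsA u) u = true := ext_range (a := 7449) (len := 191) h39 m2_39
  have h41 : ∀ u < 7831, (fun u => chkFix tab mwordsA u) u = true := ext_range (a := 7640) (len := 191) h40 m2_40
  have h42 : ∀ u < 8022, (fun u => chkFix tab mwordsA u) u = true := ext_range (a := 7831) (len := 191) h41 m2_41
  have h43 : ∀ u < 8213, (fun u => chkFix tab mwordsA u) u = true := ext_range (a := 8022) (len := 191) h42 m2_42
  have h44 : ∀ u < 8404, (fun u => chkFix tab mwordsA u) u = true := ext_range (a := 8213) (len := 191) h43 m2_43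
  have h45 : ∀ u < 8595, (fun u => chkFix tab mwordsA u) u = true := ext_range (a := 8404) (len := 191) h44 m2_44
  have h46 : ∀ u < 8786, (fun u => chkFix tab mwordsA u) u = true := ext_range (a := 8595) (len := 191) h45 m2_45
  have h47 : ∀ u < 8977, (fun u => chkFix tab mwordsA u) u = true := ext_range (a := 8786) (len := 191) h46 m2_46
  have h48 : ∀ u < 9168, (fun u => chkFix tab mwordsA u) u = true := ext_range (a := 8977) (len := 191) h47 m2_47
  have h49 : ∀ u < 9359, (fun u => chkFix tab mwordsA u) u = true := ext_range (a := 9168) (len := 191) h48 m2_48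
  have h50 : ∀ u < 9550, (fun u => chkFix tab mwordsA u) u = true := ext_range (a := 9359) (len := 191) h49 m2_49
  have h51 : ∀ u < 9741, (fun u => chkFix tab mwordsA u) u = true := ext_range (a := 9550) (len := 191) h50 m2_50
  have h52 : ∀ u < 9932, (fun u => chkFix tab mwordsA u) u = true := ext_range (a := 9741) (len := 191) h51 m2_51
  have h53 : ∀ u < 10123, (fun u => chkFix tab mwordsA u) u = true := ext_range (a := 9932) (len := 191) h52 m2_52
  have h54 : ∀ u < 10314, (fun u => chkFix tab mwordsA u) u = true := ext_range (a := 10123) (len := 191) h53 m2_53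
  have h55 : ∀ u < 10505, (fun u => chkFix tab mwordsA u) u = true := ext_range (a := 10314) (len := 191) h54 m2_54
  have h56 : ∀ u < 10696, (fun u => chkFix tab mwordsA u) u = true := ext_range (a := 10505) (len := 191) h55 m2_55
  have h57 : ∀ u < 10887, (fun u => chkFix tab mwordsA u) u = true := ext_range (a := 10696) (len := 191) h56 m2_56
  have h58 : ∀ u < 11078, (fun u => chkFix tab mwordsA u) u = true := ext_range (a := 10887) (len := 191) h57 m2_57
  have h59 : ∀ u < 11269, (fun u => chkFix tab mwordsA u) u = true := ext_range (a := 11078) (len := 191) h58 m2_58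
  have h60 : ∀ u < 11460, (fun u => chkFix tab mwordsA u) u = true := ext_range (a := 11269) (len := 191) h59 m2_59
  have h61 : ∀ u < 11651, (fun u => chkFix tab mwordsA u) u = true := ext_range (a := 11460) (len := 191) h60 m2_60
  have h62 : ∀ u < 11842, (fun u => chkFix tab mwordsA u) u = true := ext_range (a := 11651) (len := 191) h61 m2_61
  have h63 : ∀ u < 12033, (fun u => chkFix tab mwordsA u) u = true := ext_range (a := 11842) (len := 191) h62 m2_62
  have h64 : ∀ u < 12224, (fun u => chkFix tab mwordsA u) u = true := ext_range (a := 12033) (len := 191) h63 m2_63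
  have h65 : ∀ u < 12415, (fun u => chkFix tab mwordsA u) u = true := ext_range (a := 12224) (len := 191) h64 m2_64
  have h66 : ∀ u < 12606, (fun u => chkFix tab mwordsA u) u = true := ext_range (a := 12415) (len := 191) h65 m2_65
  have h67 : ∀ u < 12797, (fun u => chkFix tab mwordsA u) u = true := ext_range (a := 12606) (len := 191) h66 m2_66
  have h68 : ∀ u < 12988, (fun u => chkFix tab mwordsA u) u = true := ext_range (a := 12797) (len := 191) h67 m2_67
  have h69 : ∀ u < 13179, (fun u => chkFix tab mwordsA u) u = true := ext_range (a := 12988) (len := 191) h68 m2_68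
  have h70 : ∀ u < 13370, (fun u => chkFix tab mwordsA u) u = true := ext_range (a := 13179) (len := 191) h69 m2_69
  have h71 : ∀ u < 13561, (fun u => chkFix tab mwordsA u) u = true := ext_range (a := 13370) (len := 191) h70 m2_70
  have h72 : ∀ u < 13752, (fun u => chkFix tab mwordsA u) u = true := ext_range (a := 13561) (len := 191) h71 m2_71
  have h73 : ∀ u < 13943, (fun u => chkFix tab mwordsA u) u = true := ext_range (a := 13752) (len := 191) h72 m2_72
  have h74 : ∀ u < 14134, (fun u => chkFix tab mwordsA u) u = true := ext_range (a := 13943) (len := 191) h73 m2_73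
  have h75 : ∀ u < 14325, (fun u => chkFix tab mwordsA u) u = true := ext_range (a := 14134) (len := 191) h74 m2_74
  have h76 : ∀ u < 14516, (fun u => chkFix tab mwordsA u) u = true := ext_range (a := 14325) (len := 191) h75 m2_75
  have h77 : ∀ u < 14707, (fun u => chkFix tab mwordsA u) u = true := ext_range (a := 14516) (len := 191) h76 m2_76
  have h78 : ∀ u < 14898, (fun u => chkFix tab mwordsA u) u = true := ext_range (a := 14707) (len := 191) h77 m2_77
  have h79 : ∀ u < 15089, (fun u => chkFix tab mwordsA u) u = true := ext_range (a := 14898) (len := 191) h78 m2_78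
  have h80 : ∀ u < 15120, (fun u => chkFix tab mwordsA u) u = true := ext_range (a := 15089) (len := 31) h79 m2_79
  exact h80

theorem hE : ∀ c < 5, ∀ u < 15274, chkE tab c u = true := by
  intro c hc
  interval_cases c
  · exact hE0
  · exact hE1
  · exact hE2
  · exact hE3
  · exact hE4

end Cfsg.Agent.Helper9.TCData.HeA1
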