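import Cfsg.Agent.Lib.Helper9.TC2Cox
import Cfsg.Agent.Lib.Helper9.TC2Aux
import Cfsg.Agent.Lib.Helper9.TC2BSGS
import Cfsg.Agent.Lib.Helper9.TC2Pack
import Cfsg.Agent.Lib.Helper9.TCData.HeA1.P0

set_option autoImplicit false
set_option maxRecDepth 100000

namespace Cfsg.Agent.Helper9.TCData.HeA1
open Cfsg.Agent.Helper9.TC2
/-- The rotated relators. -/
noncomputable def rotT : WT := (WT.node 20 (WT.node 10 (WT.node 5 (WT.node 2 (WT.node 1 (WT.leaf [0, 2, 0, 2]) (WT.leaf [0, 3, 0, 3])) (WT.node 3 (WT.leaf [0, 4, 0, 4]) (WT.node 4 (WT.leaf [0, 1, 0, 1, 0, 1, 0, 1]) (WT.leaf [0, 2, 1, 0, 2, 1, 0, 4, 2, 1])))) (WT.node 7 (WT.node 6 (WT.leaf [0, 4, 2, 1, 0, 2, 1, 0, 2, 1]) (WT.leaf [0, 3, 2, 3, 2, 3, 2, 3, 2, 3, 2])) (WT.node 8 (WT.leaf [1, 3, 1, 3]) (WT.node 9 (WT.leaf [1, 4, 1, 4]) (WT.leaf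 [1, 0, 1, 0, 1, 0, 1, 0]))))) (WT.node 15 (WT.node 12 (WT.node 11 (WT.leaf [1, 0, 2, 1, 0, 4, 2, 1, 0, 2]) (WT.leaf [1, 0, 2, 1, 0, 2, 1, 0, 4, 2])) (WT.node 13 (WT.leaf [1, 2, 1, 2, 1, 2]) (WT.node 14 (WT.leaf [1, 0, 4, 2, 1, 0, 2, 1, 0, 2]) (WT.leaf [2, 4, 2, 4])))) (WT.node 17 (WT.node 16 (WT.leaf [2, 1, 2, 1, 2, 1]) (WT.leaf [2, 0, 2, 0])) (WT.node 18 (WT.leaf [2, 3, 2, 3, 2, 3, 2, 3, 2, 3, 2, 3, 2, 3, 2, 3, 2, 3, 2, 3]) (WT.node 19 (WT.leaf [2, 1, 0, 2, 1, 0, 2, 1, 0, 4]) (WT.leaf [2, 3, 2, 3, 2, 3, 2, 3, 2, 0, 3])))))) (WT.node 30 (WT.node 25 (WT.node 22 (WT.node 21 (WT.leaf [2, 3, 2, 0, 3, 2, 3, 2, 3, 2, 3]) (WT.leaf [2, 3, 2, 3, 2, 0, 3, 2, 3, 2, 3])) (WT.node 23 (WT.leaf [2, 3, 2, 3, 2, 3, 2, 0, 3, 2, 3]) (WT.node 24 (WT.leaf [2, 1, 0, 2, 1, 0, 4, 2, 1, 0]) (WT.leaf [2,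 0, 3, 2, 3, 2, 3, 2, 3, 2, 3])))) (WT.node 27 (WT.node 26 (WT.leaf [2, 1, 0, 4, 2, 1, 0, 2, 1, 0]) (WT.leaf [3, 2, 3, 2, 3, 2, 3, 2, 0, 3, 2])) (WT.node 28 (WT.leaf [3, 4, 3, 4, 3, 4]) (WT.node 29 (WT.leaf [3, 1, 3, 1]) (WT.leaf [3, 0, 3, 0]))))) (WT.node 35 (WT.node 32 (WT.node 31 (WT.leaf [3, 2, 3, 2, 0, 3, 2, 3, 2, 3, 2]) (WT.leaf [3, 2, 3, 2, 3, 2, 0, 3, 2, 3, 2])) (WT.node 33 (WT.leaf [3, 2, 3, 2, 3, 2, 3, 2, 3, 2, 3, 2, 3, 2, 3, 2, 3, 2, 3, 2]) (WT.node 34 (WT.leaf [3, 2, 3, 2, 3, 2, 3, 2, 3, 2, 0]) (WT.leaf [3, 2, 0, 3, 2, 3, 2, 3, 2, 3, 2])))) (WT.node 37 (WT.node 36 (WT.leaf [4, 3, 4, 3, 4, 3]) (WT.leaf [4, 2, 4, 2])) (WT.node 38 (WT.leaf [4, 1, 4, 1]) (WT.node 39 (WT.leaf [4, 0, 4, 0]) (WT.leaf [4, 2, 1, 0, 2, 1, 0, 2, 1, 0])))))))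

/-- The sources of the rotated relators: relator and rotation. -/
def rotSrc : List (ℕ × ℕ) := [(2, 2), (3, 2), (4, 2), (1, 2), (25, 3), (25, 9), (26, 0), (8, 2), (9, 2), (1, 1), (25, 5), (25, 2), (7, 2), (25, 8), (14, 2), (7, 1), (2, 1), (13, 2), (25, 1), (26, 2), (26, 8), (26, 6), (26, 4), (25, 4), (26, 10), (25, 7), (26, 3), (19, 2), (8, 1), (3, 1), (26, 7), (26, 5), (13, 1), (26, 1), (26, 9), (19, 1), (14, 1), (9, 1), (4, 1), (25, 0)]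

/-- The relators, as words of columns. -/
def relWords : List (List ℕ) := [[0, 0], [0, 1, 0, 1, 0, 1, 0, 1], [0, 2, 0, 2], [0, 3, 0, 3], [0, 4, 0, 4], [1, 0, 1, 0, 1, 0, 1, 0], [1, 1], [1, 2, 1, 2, 1, 2], [1, 3, 1, 3], [1, 4, 1, 4], [2, 0, 2, 0], [2, 1, 2, 1, 2, 1], [2, 2], [2, 3, 2, 3, 2, 3, 2, 3, 2, 3, 2, 3, 2, 3, 2, 3, 2, 3, 2, 3], [2, 4, 2, 4], [3, 0, 3, 0], [3, 1, 3, 1], [3, 2, 3, 2, 3, 2, 3, 2, 3, 2, 3, 2, 3, 2, 3, 2, 3, 2, 3, 2], [3, 3], [3, 4, 3, 4, 3, 4], [4, 0, 4, 0], [4, 1, 4, 1], [4, 2, 4, 2], [4, 3, 4, 3, 4, 3], [4, 4], [4, 2, 1, 0, 2, 1, 0, 2, 1, 0], [0, 3, 2, 3, 2, 3, 2, 3, 2, 3, 2]]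

/-- The words of the auxiliary columns. -/
def aux : List (List ℕ) := [[2, 3, 2, 3]]

/-- The words checked on the permutation model, with auxiliary columns. -/
def mwordsA : List (List ℕ) := [[0, 1, 0, 1, 0, 1, 0, 1], [0, 2, 0, 2], [0, 3, 0, 3], [0, 4, 0, 4], [1, 2, 1, 2, 1, 2], [1, 3, 1, 3], [1, 4, 1, 4], [5, 5, 5, 5, 5], [2, 4, 2, 4], [3, 4, 3, 4, 3, 4], [4, 2, 1, 0, 2, 1, 0, 2, 1, 0], [0, 3, 2, 3, 2, 3, 2, 3, 2, 3, 2]]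

/-- The table. -/
noncomputable def tab : Tab where
  k := 5
  inv := fun c => c
  N := 15274
  n := 15120
  Tmax := 76074
  wn := 14
  mn := 0x3fff
  subs := []
  rot := fun i => rotT.getF i
  ent := fun c i => bget2 entT_0 5 9 31 0x7fffffff 511 c i
  cer := fun c i => bget2 cerT_0 5 9 17 0x1ffff 511 c i
  tau := fun c i => bget2 tauT_0 4 10 14 0x3fff 1023 c i
  lk := fun i => bget lkT_0 9 30 0x3fffffff 511 i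
  lc := fun i => bget lcT_0 8 33 0x1ffffffff 255 i
  pn := fun i => bget pnT_0 9 17 0x1ffff 511 i
  cls := fun i => bget clsT_0 10 14 0x3fff 1023 i
  rep := fun i => bget repT_0 10 14 0x3fff 1023 i

end Cfsg.Agent.Helper9.TCData.HeA1
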