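import Cfsg.Agent.Lib.Helper9.TCData.HeA1.Main

set_option autoImplicit false
set_option maxRecDepth 1000000

namespace Cfsg.Agent.Helper9.TCData.HeA1
open Cfsg.Agent.Helper9.TC2

theorem e0_0 : allRange 0 2359 (fun u => chkE tab 0 u) = true := by decide +kernel

theorem e0_1 : allRange 2359 2518 (fun u => chkE tab 0 u) = true := by decide +kernel

theorem e0_2 : allRange 4877 2402 (fun u => chkE tab 0 u) = true := by decide +kernel

theorem e0_3 : allRange 7279 2534 (fun u => chkE tab 0 u) = true := by decide +kernel

theorem e0_4 : allRange 9813 2493 (fun u => chkE tab 0 u) = true := by decide +kernel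

theorem e0_5 : allRange 12306 2773 (fun u => chkE tab 0 u) = true := by decide +kernel

theorem e0_6 : allRange 15079 195 (fun u => chkE tab 0 u) = true := by decide +kernel

theorem e1_0 : allRange 0 2734 (fun u => chkE tab 1 u) = true := by decide +kernel


end Cfsg.Agent.Helper9.TCData.HeA1
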